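import Cfsg.Agent.Lib.Golay.Octads

/-!
Coset leaders of the length-24 code: every coset has a leader of weight at most 4.
-/

set_option autoImplicit false

namespace CfsgLib.GolayCoset

open Cfsg CfsgLib.Golay
open scoped symmDiff

/-- `t` is congruent to `s` modulo the code. -/
def Cong (s t : Finset GolayPt) : Prop :=
  s ∆ t ∈ supports (golayCode : Set (GolayPt → ZMod 2))

theorem Cong.trans {s t u : Finset GolayPt} (h : Cong s t) (h' : Cong t u) : Cong s u := by
  have := supports_symmDiff h h'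
  unfold Cong
  rwa [symmDiff_assoc, symmDiff_symmDiff_cancel_left] at this

theorem Cong.symm {s t : Finset GolayPt} (h : Cong s t) : Cong t s := by
  unfold Cong; rwa [symmDiff_comm]

theorem cong_refl (s : Finset GolayPt) : Cong s s := by
  unfold Cong; rw [symmDiff_self]
  exact ⟨0, zero_mem _, by simp [support₂]⟩

theorem cong_symmDiff_octad (s : Finset GolayPt) {o : Finset GolayPt} (ho : o ∈ octads) :
    Cong s (s ∆ o) := by
  unfold Cong; rw [symmDiff_symmDiff_cancel_left]; exact ho.1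

theorem card_symmDiff_eq (s t : Finset GolayPt) :
    (s ∆ t).card + 2 * (s ∩ t).card = s.card + t.card := by
  have h1 := Finset.card_sdiff_add_card_inter s t
  have h2 := Finset.card_sdiff_add_card_inter t s
  have h3 : (s ∆ t).card = (s \ t).card + (t \ s).card :=
    Finset.card_union_of_disjoint disjoint_sdiff_sdiff
  rw [Finset.inter_comm t s] at h2
  omega

/-- The covering radius is at most 4. -/
theorem exists_cong_card_le_four (s : Finset GolayPt) : ∃ t, Cong s t ∧ t.card ≤ 4 := by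
  induction hn : s.card using Nat.strong_induction_on generalizing s with
  | _ n ih =>
    rcases Nat.lt_or_ge n 5 with h | h
    · exact ⟨s, cong_refl s, by omega⟩
    · obtain ⟨a, hsa, ha⟩ := Finset.exists_subset_card_eq (s := s) (n := 5) (by omega)
      obtain ⟨o, ho, hao⟩ := exists_octad (s := a) ha.le
      have h5 : 5 ≤ (s ∩ o).card := ha ▸ Finset.card_le_card (Finset.subset_inter hsa hao)
      have hc := card_symmDiff_eq s o
      rw [ho.2] at hc
      obtain ⟨t, ht, ht4⟩ := ih _ (by omega : (s ∆ o).card < n) (s ∆ o) rfl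
      exact ⟨t, (cong_symmDiff_octad s ho).trans ht, ht4⟩

theorem cong_cases {s t : Finset GolayPt} (h : Cong s t) (hs : s.card ≤ 4) (ht : t.card ≤ 4) :
    s = t ∨ (s.card = 4 ∧ t.card = 4 ∧ Disjoint s t ∧ s ∪ t ∈ octads) := by
  have hc := card_symmDiff_eq s t
  rcases supports_card h with h0 | h8 | h' | h' | h'
  · exact Or.inl (symmDiff_eq_bot.1 (Finset.card_eq_zero.1 h0))
  · have hd : Disjoint s t := Finset.disjoint_iff_inter_eq_empty.2 (Finset.card_eq_zero.1 (by omega))
    refine Or.inr ⟨by omega, by omega, hd, ?_⟩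
    rw [Cong, Disjoint.symmDiff_eq_sup hd] at h
    exact ⟨h, by rw [Finset.card_union_of_disjoint hd]; omega⟩
  all_goals omega

/-- Through every point there is a tetrad congruent to a given tetrad. -/
theorem exists_tetrad_through {s : Finset GolayPt} (hs : s.card = 4) (p : GolayPt) :
    ∃ t, Cong s t ∧ t.card = 4 ∧ p ∈ t := by
  by_cases hp : p ∈ s
  · exact ⟨s, cong_refl s, hs, hp⟩
  · obtain ⟨o, ho, hso⟩ := exists_octad (s := insert p s) (by rw [Finset.card_insert_of_notMem hp]; omega)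
    rw [Finset.insert_subset_iff] at hso
    refine ⟨o \ s, ?_, ?_, by simp [hso.1, hp]⟩
    · unfold Cong
      rw [Disjoint.symmDiff_eq_sup Finset.disjoint_sdiff, Finset.sup_eq_union,
        Finset.union_sdiff_of_subset hso.2]
      exact ho.1
    · rw [Finset.card_sdiff_of_subset hso.2, ho.2, hs]

/-- A coset has six leaders of weight 4 or a single leader of weight at most 3. -/
theorem leaders (s : Finset GolayPt) :
    ({t | t.card ≤ 4 ∧ Cong s t}.ncard = 1 ∧ ∃ t, t.card ≤ 3 ∧ Cong s t) ∨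
      ({t | t.card ≤ 4 ∧ Cong s t}.ncard = 6 ∧ ∀ t, Cong s t → t.card ≤ 4 → t.card = 4) := by
  obtain ⟨t₀, ht₀, hc₀⟩ := exists_cong_card_le_four s
  by_cases h : ∃ t, t.card ≤ 3 ∧ Cong s t
  · left
    refine ⟨Set.ncard_eq_one.2 ?_, h⟩
    obtain ⟨t, ht3, hst⟩ := h
    refine ⟨t, Set.ext fun u => ⟨fun hu => ?_, fun hu => hu ▸ ⟨by omega, hst⟩⟩⟩
    rcases cong_cases (hu.2.symm.trans hst) hu.1 (by omega) with he | ⟨-, h4, -⟩
    · exact he
    · omega
  · right
    simp only [not_exists, not_and] at h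
    have h4 : ∀ t, Cong s t → t.card ≤ 4 → t.card = 4 := fun t hst ht => by
      have := mt (h t) (not_not.2 hst)
      omega
    refine ⟨?_, h4⟩
    classical
    set L := (Finset.univ : Finset (Finset GolayPt)).filter fun t => t.card ≤ 4 ∧ Cong s t with hL
    have hset : {t : Finset GolayPt | t.card ≤ 4 ∧ Cong s t} = ↑L := by ext t; simp [hL]
    have hmem : ∀ t ∈ L, t.card ≤ 4 ∧ Cong s t := fun t ht => (Finset.mem_filter.1 ht).2
    have hd : (↑L : Set (Finset GolayPt)).PairwiseDisjoint id := by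
      intro a ha b hb hab
      rcases cong_cases ((hmem a ha).2.symm.trans (hmem b hb).2) (hmem a ha).1 (hmem b hb).1 with he | ⟨-, -, hd, -⟩
      · exact absurd he hab
      · exact hd
    have hU : L.biUnion id = Finset.univ := by
      refine Finset.eq_univ_of_forall fun p => ?_
      obtain ⟨t, ht, ht4, hpt⟩ := exists_tetrad_through (h4 t₀ ht₀ hc₀) p
      exact Finset.mem_biUnion.2 ⟨t, Finset.mem_filter.2 ⟨Finset.mem_univ _, ht4.le, ht₀.trans ht⟩, hpt⟩
    have hsum := congrArg Finset.card hU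
    rw [Finset.card_biUnion hd, Finset.sum_congr rfl (fun t ht => (h4 t (hmem t ht).2 (hmem t ht).1 :
      (id t).card = 4)), Finset.sum_const, smul_eq_mul, Finset.card_univ] at hsum
    rw [hset, Set.ncard_coe_finset]
    have : Fintype.card GolayPt = 24 := rfl
    omega

theorem support₂_sub (v w : GolayPt → ZMod 2) : support₂ (v - w) = support₂ v ∆ support₂ w := by
  ext p
  simp only [support₂, Finset.mem_symmDiff, Finset.mem_filter, Finset.mem_univ, true_and, Pi.sub_apply]
  rcases zmod_two_cases (v p) with h | h <;> rcases zmod_two_cases (w p) with h' | h' <;> simp [h, h']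

theorem sub_mem_iff {v w : GolayPt → ZMod 2} :
    v - w ∈ golayCode ↔ Cong (support₂ v) (support₂ w) := by
  rw [Cong, ← support₂_sub, support₂_mem_supports]

theorem card_support₂ (w : GolayPt → ZMod 2) : (support₂ w).card = hammingNorm w := rfl

theorem support₂_indicator (t : Finset GolayPt) :
    support₂ (fun p => if p ∈ t then (1 : ZMod 2) else 0) = t := by
  ext p; simp [support₂]

/-- The leaders, in terms of words. -/
theorem leaders_word (w : GolayPt → ZMod 2) :
    ({v : GolayPt → ZMod 2 | hammingNorm v ≤ 4 ∧ w - v ∈ golayCode}.ncard = 1 ∧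
      ∃ v : GolayPt → ZMod 2, hammingNorm v ≤ 3 ∧ w - v ∈ golayCode) ∨
    ({v : GolayPt → ZMod 2 | hammingNorm v ≤ 4 ∧ w - v ∈ golayCode}.ncard = 6 ∧
      ∀ v : GolayPt → ZMod 2, w - v ∈ golayCode → hammingNorm v ≤ 4 → hammingNorm v = 4) := by
  have himg : {t | t.card ≤ 4 ∧ Cong (support₂ w) t}
      = support₂ '' {v | hammingNorm v ≤ 4 ∧ w - v ∈ golayCode} := by
    ext t
    constructor
    · intro ht
      refine ⟨fun p => if p ∈ t then (1 : ZMod 2) else 0, ⟨?_, ?_⟩, support₂_indicator t⟩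
      · rw [← card_support₂, support₂_indicator]; exact ht.1
      · rw [sub_mem_iff, support₂_indicator]; exact ht.2
    · rintro ⟨v, ⟨hv, hv'⟩, rfl⟩
      exact ⟨hv, sub_mem_iff.1 hv'⟩
  have hn : {t | t.card ≤ 4 ∧ Cong (support₂ w) t}.ncard
      = {v : GolayPt → ZMod 2 | hammingNorm v ≤ 4 ∧ w - v ∈ golayCode}.ncard := by
    rw [himg, Set.ncard_image_of_injective _ support₂_injective]
  rcases leaders (support₂ w) with ⟨h1, t, ht, hc⟩ | ⟨h1, h2⟩
  · refine Or.inl ⟨hn ▸ h1, fun p => if p ∈ t then (1 : ZMod 2) else 0, ?_, ?_⟩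
    · rw [← card_support₂, support₂_indicator]; exact ht
    · rw [sub_mem_iff, support₂_indicator]; exact hc
  · exact Or.inr ⟨hn ▸ h1, fun v hv hv4 => h2 _ (sub_mem_iff.1 hv) hv4⟩

/-! ### The punctured code -/

/-- The word of length 23 with the given mask. -/
def res (n : ℕ) : ZMod 23 → ZMod 2 := fun x => toWord n (some x)

theorem res_xor (m n : ℕ) : res (m ^^^ n) = res m + res n := by
  funext x; simp [res, toWord_xor]

theorem hammingNorm_res (n : ℕ) : hammingNorm (res n) = pc 23 n := by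
  rw [pc_eq_card]
  show (Finset.univ.filter fun x => res n x ≠ 0).card = _
  refine Finset.card_nbij ZMod.val (fun x hx => ?_) (ZMod.val_injective 23).injOn fun i hi => ?_
  · simp only [Finset.coe_filter, Finset.mem_univ, true_and, Set.mem_setOf_eq, res, toWord_ne_zero] at hx
    simpa [ZMod.val_lt x, bit] using hx
  · simp only [Finset.coe_filter, Finset.mem_range, Set.mem_setOf_eq] at hi
    refine ⟨(i : ZMod 23), ?_, ZMod.val_natCast_of_lt hi.1⟩
    simp [res, toWord_ne_zero, bit, ZMod.val_natCast_of_lt hi.1, hi.2]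

theorem punctured_eq :
    {u : ZMod 23 → ZMod 2 | ∃ w ∈ golayCode, ∀ x : ZMod 23, u x = w (some x)}
      = (fun x => res (comb x)) '' {x : ℕ | x < 2 ^ 12} := by
  ext u
  constructor
  · rintro ⟨w, hw, hu⟩
    obtain ⟨x, hx, rfl⟩ := mem_golay_iff.1 hw
    exact ⟨x, hx, funext fun y => (hu y).symm⟩
  · rintro ⟨x, -, rfl⟩
    exact ⟨_, toWord_comb_mem x, fun y => rfl⟩

theorem res_checks :
    allR (fun x => let k := pc 23 (comb x); Nat.beq x 0 || Nat.ble 7 k) 12 0 = true := by
  decide +kernel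

theorem res_min {x : ℕ} (hx : x < 2 ^ 12) (h : x ≠ 0) : 7 ≤ hammingNorm (res (comb x)) := by
  rw [hammingNorm_res]
  have := allR_spec res_checks x (Nat.zero_le _) (by simpa using hx)
  simp only [Bool.or_eq_true, Nat.beq_eq, Nat.ble_eq] at this
  exact this.resolve_left h

theorem res_comb_xor {x y : ℕ} : res (comb (x ^^^ y)) = res (comb x) + res (comb y) :=
  (congrArg res (comb_xor x y)).trans (res_xor _ _)

theorem res_injOn : Set.InjOn (fun x => res (comb x)) {x : ℕ | x < 2 ^ 12} := by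
  intro x hx y hy h
  by_contra hne
  have e : res (comb (x ^^^ y)) = 0 :=
    res_comb_xor.trans ((congrArg (fun r => r + res (comb y)) h).trans (CharTwo.add_self_eq_zero _))
  have h7 := res_min (Nat.xor_lt_two_pow hx hy) (fun h1 => hne (Nat.xor_eq_zero_iff.1 h1))
  exact absurd ((congrArg hammingNorm e).trans hammingNorm_zero) (Nat.ne_of_gt (lt_of_lt_of_le (Nat.succ_pos _) h7))

theorem ncard_punctured_weight (k : ℕ) :
    {u : ZMod 23 → ZMod 2 | u ∈ {u : ZMod 23 → ZMod 2 | ∃ w ∈ golayCode, ∀ x : ZMod 23, u x = w (some x)}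
      ∧ hammingNorm u = k}.ncard = countR (fun x => Nat.beq (pc 23 (comb x)) k) 12 0 := by
  rw [countR_spec, Nat.zero_add, ← Set.ncard_coe_finset]
  rw [← (res_injOn.mono fun x hx => (Finset.mem_Ico.1 (Finset.mem_filter.1 hx).1).2).ncard_image]
  congr 1
  rw [punctured_eq]
  ext u
  simp only [Set.mem_setOf_eq, Set.mem_image, Finset.coe_filter,
    Finset.mem_Ico, Nat.beq_eq]
  constructor
  · rintro ⟨⟨x, hx, rfl⟩, h⟩
    exact ⟨x, ⟨⟨Nat.zero_le _, hx⟩, by rwa [← hammingNorm_res]⟩, rfl⟩
  · rintro ⟨x, ⟨⟨-, hx⟩, h⟩, rfl⟩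
    exact ⟨⟨x, hx, rfl⟩, by rwa [hammingNorm_res]⟩

end CfsgLib.GolayCoset
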